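import Cfsg.Agent.PLocal.PSolvable
import Cfsg.Agent.CharactersDeep.ClassPairs
import Cfsg.Agent.Blocks.PPart

/-!
# Pairs of p-elements generating p-solvable subgroups

With abelian p-subgroups, a p-solvable group generated by two p-elements has a normal
p-complement, so at most one `x ^ i * y` has order prime to `p`.  The number of pairs from a
conjugacy class with product in a given invariant set comes from the characters.
-/

set_option autoImplicit false
set_option linter.style.haveILetI false

namespace CfsgLib.PairPSolvable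

open Subgroup CfsgLib.PLocal

variable {G : Type*} [Group G]

theorem isPGroup_quotient_of_abelian [Finite G] {p : ℕ} [hp : Fact p.Prime] (hs : Cfsg.IsPSolvable p G)
    (hab : ∀ Q : Sylow p G, IsMulCommutative (Q : Subgroup G)) {x y : G}
    (hx : ∃ k, orderOf x = p ^ k) (hy : ∃ k, orderOf y = p ^ k)
    (hgen : closure ({x, y} : Set G) = ⊤) : IsPGroup p (G ⧸ Cfsg.pPrimeCore p G) := by
  let π := QuotientGroup.mk' (Cfsg.pPrimeCore p G)
  have hπ : Function.Surjective π := QuotientGroup.mk'_surjective _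
  have hO := pPrimeCore_quotient_pPrimeCore_eq_bot p G
  have hC := centralizer_pCore_le (isPSolvable_of_surjective hs hπ) hO
  have hmem : ∀ z : G, (∃ k, orderOf z = p ^ k) → π z ∈ Cfsg.pCore p (G ⧸ Cfsg.pPrimeCore p G) := by
    rintro z ⟨k, hk⟩
    obtain ⟨Q, hQ⟩ := (IsPGroup.of_card (n := k) (by rw [Nat.card_zpowers, hk]) :
      IsPGroup p (zpowers z)).exists_le_sylow
    have hzQ : π z ∈ (Q.mapSurjective hπ : Subgroup _) := by
      rw [Sylow.coe_mapSurjective]
      exact mem_map_of_mem π (hQ (mem_zpowers z))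
    refine hC (mem_centralizer_iff.2 fun o ho => ?_)
    have hoQ := pCore_le_sylow (Q.mapSurjective hπ) ho
    rw [Sylow.coe_mapSurjective] at hoQ hzQ
    obtain ⟨a, ha, rfl⟩ := hoQ
    obtain ⟨b, hb, hbz⟩ := hzQ
    haveI := hab Q
    have h := congrArg Subtype.val (IsMulCommutative.is_comm.comm (⟨a, ha⟩ : (Q : Subgroup G)) ⟨b, hb⟩)
    rw [← hbz, ← map_mul, ← map_mul]
    exact congrArg π h
  have htop : Cfsg.pCore p (G ⧸ Cfsg.pPrimeCore p G) = ⊤ := by
    rw [eq_top_iff, ← map_top_of_surjective π hπ, ← hgen, MonoidHom.map_closure, closure_le]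
    rintro _ ⟨z, (rfl | rfl), rfl⟩
    · exact hmem _ hx
    · exact hmem _ hy
  have h := isPGroup_pCore p (G ⧸ Cfsg.pPrimeCore p G)
  rw [htop] at h
  exact h.of_equiv topEquiv

/-- With abelian p-subgroups at most one of the `x ^ i * y` is p-regular. -/
theorem regular_unique [Finite G] {p : ℕ} [hp : Fact p.Prime] {x y : G}
    (hx : orderOf x = p) (hy : ∃ k, orderOf y = p ^ k)
    (hab : ∀ A : Subgroup G, IsPGroup p A → IsMulCommutative A)
    (hs : Cfsg.IsPSolvable p ↥(closure ({x, y} : Set G))) {i j : ℕ}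
    (hi : ¬ p ∣ orderOf (x ^ i * y)) (hj : ¬ p ∣ orderOf (x ^ j * y)) : i ≡ j [MOD p] := by
  set H := closure ({x, y} : Set G)
  let x' : H := ⟨x, subset_closure (by simp)⟩
  let y' : H := ⟨y, subset_closure (by simp)⟩
  have habH : ∀ Q : Sylow p H, IsMulCommutative (Q : Subgroup H) := fun Q =>
    ⟨⟨fun a b => by
      haveI := hab _ (Q.isPGroup'.map H.subtype)
      have h := congrArg Subtype.val (IsMulCommutative.is_comm.comm
        (⟨_, mem_map_of_mem H.subtype a.2⟩ : (Q : Subgroup H).map H.subtype)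
        ⟨_, mem_map_of_mem H.subtype b.2⟩)
      exact Subtype.ext (Subtype.ext h)⟩⟩
  have hgen : closure ({x', y'} : Set H) = ⊤ := by
    refine map_injective H.subtype_injective ?_
    rw [MonoidHom.map_closure, ← MonoidHom.range_eq_map, range_subtype, Set.image_pair]
    rfl
  have hx' : orderOf x' = p := by rw [← orderOf_coe]; exact hx
  have hq := isPGroup_quotient_of_abelian hs habH (x := x') (y := y')
    ⟨1, by rw [pow_one, hx']⟩ (by simpa only [y', orderOf_mk] using hy) hgen
  set K := Cfsg.pPrimeCore p H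
  have hker : ∀ h : H, ¬ p ∣ orderOf h → h ∈ K := by
    intro h hh
    obtain ⟨k, hk⟩ := hq (QuotientGroup.mk' K h)
    rw [← QuotientGroup.eq_one_iff, ← orderOf_eq_one_iff]
    refine Nat.eq_one_of_dvd_coprimes ((hp.out.coprime_iff_not_dvd.2 hh).pow_left k)
      (orderOf_dvd_of_pow_eq_one hk) (orderOf_map_dvd (QuotientGroup.mk' K) h)
  have h1 := hker (x' ^ i * y') (by rwa [← orderOf_coe])
  have h2 := hker (x' ^ j * y') (by rwa [← orderOf_coe])
  have h3 : (x' ^ i) * (x' ^ j)⁻¹ ∈ K := by
    have := K.mul_mem h1 (K.inv_mem h2)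
    simpa [mul_assoc] using this
  have h4 : x' ^ i * (x' ^ j)⁻¹ = 1 := by
    have hz : x' ^ i * (x' ^ j)⁻¹ ∈ zpowers x' :=
      mul_mem (pow_mem (mem_zpowers _) i) (inv_mem (pow_mem (mem_zpowers _) j))
    have hd : Disjoint (zpowers x') K := disjoint_iff.2 (disjoint_of_isPGroup_of_coprime
      (IsPGroup.of_card (n := 1) (by rw [Nat.card_zpowers, hx', pow_one]))
      (coprime_card_pPrimeCore p H))
    exact (disjoint_def.1 hd) hz h3
  rw [mul_inv_eq_one, pow_eq_pow_iff_modEq, hx'] at h4
  exact h4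

section Count

open Cfsg CfsgLib.Characters CfsgLib.CharactersDeep.ClassPairs

variable [Fintype G]

/-- A class function summed over the products of two elements of a class. -/
theorem sum_pairs_classFun {f : G → ℂ} (hf : Cfsg.IsClassFunction G f) (a : G) :
    ∑ w ∈ classSet a ×ˢ classSet a, f (w.1 * w.2) =
      ((classSet a).card : ℂ) ^ 2 * ∑ χ : IrrCharacter G,
        Cfsg.classInner f (χ : G → ℂ) * ((χ : G → ℂ) a ^ 2 / (χ : G → ℂ) 1) := by
  have hexp : ∀ g, f g = ∑ χ : IrrCharacter G, Cfsg.classInner f (χ : G → ℂ) * (χ : G → ℂ) g := by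
    intro g
    have := congrFun (classFunction_expansion hf) g
    simpa [Finset.sum_apply] using this
  calc _ = ∑ w ∈ classSet a ×ˢ classSet a, ∑ χ : IrrCharacter G,
        Cfsg.classInner f (χ : G → ℂ) * (χ : G → ℂ) (w.1 * w.2) :=
      Finset.sum_congr rfl fun w _ => hexp _
    _ = _ := by
      rw [Finset.sum_comm, Finset.mul_sum]
      refine Finset.sum_congr rfl fun χ _ => ?_
      rw [← Finset.mul_sum, sum_pairs_char χ.2]
      ring

end Count

end CfsgLib.PairPSolvable
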